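import Mathlib
import Cfsg.Agent.H777.M5.Sit

/-!
# S5232 (Monster, p = 5), part B: the normal 5-subgroup of `C(x)` (helper211)

`SitC C` : the situation of `H777/M5/Sit.lean` inside the group `C = C(x)`.
-/

set_option autoImplicit false
set_option linter.unusedSectionVars false
set_option linter.style.haveILetI false

namespace Cfsg.Agent.H211.M5

open Subgroup

/-- The situation inside `C(x)`. -/
structure SitC (C : Type) [Group C] where
  x : C
  z : C
  u : C
  x_ord : orderOf x = 5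
  x_cen : ∀ g : C, g * x = x * g
  z_sq : z * z = 1
  z_ne : z ≠ 1
  u_sq : u * u = 1
  uz : u * z = z * u
  N : Subgroup C
  N_nor : N.Normal
  N_odd : Odd (Nat.card N)
  x_N : x ∈ N
  N_sup : ∀ g : C, ∃ n ∈ N, ∃ h, h * z = z * h ∧ g = n * h
  J : Type
  [grpJ : Group J]
  J_simple : IsSimpleGroup J
  J_card : Nat.card J = 604800
  f : ↥(centralizer {z} : Subgroup C) →* J
  f_surj : Function.Surjective f
  f_ker : ∀ h : ↥(centralizer {z} : Subgroup C), f h = 1 ↔ ∃ k : ℕ, (h : C) = x ^ k ∨ (h : C) = x ^ k * z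
  no125 : ∀ R : Subgroup C, R ≤ centralizer {z} → R ≤ centralizer {u} → Nat.card R ≠ 125
  S : Subgroup C
  S_u : S ≤ centralizer {u}
  S_card : Nat.card S = 5 ^ 4
  S_center : ∀ y ∈ S, (∀ s ∈ S, y * s = s * y) → y ∈ zpowers x
  S_nab : ∃ s₁ ∈ S, ∃ s₂ ∈ S, s₁ * s₂ * s₁⁻¹ * s₂⁻¹ ∉ zpowers x
  S_max : ∀ R : Subgroup C, IsPGroup 5 R → R ≤ centralizer {u} → Nat.card R ≤ 5 ^ 4
  not_dvd : ¬ 5 ^ 10 ∣ Nat.card C

namespace SitC

attribute [instance] SitC.grpJ SitC.J_simple SitC.N_nor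

variable {C : Type} [Group C] [Finite C] (T : SitC C)

instance fact5 : Fact (Nat.Prime 5) := ⟨by norm_num⟩

theorem cen_of_mem {t : C} (ht : t ∈ zpowers T.x) (g : C) : g * t = t * g := by
  obtain ⟨k, rfl⟩ := ht
  exact ((show Commute g T.x from T.x_cen g).zpow_right k)

instance nX : (zpowers T.x).Normal := ⟨fun t ht g => by rw [T.cen_of_mem ht g, mul_inv_cancel_right]; exact ht⟩

theorem x_pow : T.x ^ 5 = 1 := by rw [← T.x_ord]; exact pow_orderOf_eq_one _

theorem pow_of_mem {t : C} (ht : t ∈ zpowers T.x) : t ^ 5 = 1 := by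
  obtain ⟨k, rfl⟩ := ht
  rw [← zpow_natCast, ← zpow_mul, mul_comm, zpow_mul, zpow_natCast, T.x_pow, one_zpow]

theorem eq_one_of_sq {t : C} (ht : t ∈ zpowers T.x) (h : t * t = 1) : t = 1 := by
  have h5 := T.pow_of_mem ht
  calc t = t ^ 5 * (t * t)⁻¹ * (t * t)⁻¹ := by group
    _ = 1 := by rw [h5, h]; simp

theorem card_X : Nat.card (zpowers T.x) = 5 := by rw [Nat.card_zpowers, T.x_ord]

theorem z_notin {K : Subgroup C} (hK : Odd (Nat.card K)) : T.z ∉ K := by
  intro h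
  have h2 : orderOf (⟨T.z, h⟩ : K) = 2 := by
    have : Fact (Nat.Prime 2) := ⟨Nat.prime_two⟩
    refine orderOf_eq_prime ?_ ?_
    · apply Subtype.ext
      show T.z ^ 2 = 1
      rw [pow_two, T.z_sq]
    · intro h1
      exact T.z_ne (congrArg Subtype.val h1)
  have h3 := orderOf_dvd_natCard (⟨T.z, h⟩ : K)
  rw [h2] at h3
  exact (Nat.not_even_iff_odd.2 hK) (even_iff_two_dvd.2 h3)

/-- elements of the kernel of `f` lying in a subgroup of odd order -/
theorem mem_of_ker {h : ↥(centralizer {T.z} : Subgroup C)} (hf : T.f h = 1) {K : Subgroup C}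
    (hK : Odd (Nat.card K)) (hh : (h : C) ∈ K) : (h : C) ∈ zpowers T.x := by
  obtain ⟨k, hk | hk⟩ := (T.f_ker h).1 hf
  · rw [hk]
    exact pow_mem (mem_zpowers _) k
  · exfalso
    have h1 : (h : C) ^ 5 = T.z := by
      have hc : Commute (T.x ^ k) T.z := (show Commute T.x T.z from (T.x_cen T.z).symm).pow_left k
      rw [hk, hc.mul_pow, ← pow_mul, mul_comm k 5, pow_mul, T.x_pow, one_pow, one_mul]
      calc T.z ^ 5 = (T.z * T.z) ^ 2 * T.z := by rw [← pow_two, ← pow_mul, ← pow_succ]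
        _ = T.z := by rw [T.z_sq]; simp
    exact T.z_notin hK (h1 ▸ pow_mem hh 5)

/-- (1) -/
theorem NH {n : C} (hn : n ∈ T.N) (hz : n * T.z = T.z * n) : n ∈ zpowers T.x := by
  have hJfin : Finite T.J := Finite.of_surjective _ T.f_surj
  have hmem : n ∈ (centralizer {T.z} : Subgroup C) := by
    rw [mem_centralizer_singleton_iff]
    exact hz
  have hnor : ((T.N.subgroupOf (centralizer {T.z})).map T.f).Normal := Subgroup.Normal.map inferInstance _ T.f_surj
  rcases hnor.eq_bot_or_eq_top with h | h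
  · have h1 : T.f ⟨n, hmem⟩ = 1 := by
      rw [← mem_bot, ← h]
      exact mem_map_of_mem _ (show (⟨n, hmem⟩ : ↥(centralizer {T.z} : Subgroup C)) ∈ T.N.subgroupOf _ from hn)
    exact T.mem_of_ker h1 T.N_odd hn
  · exfalso
    have h2 : 2 ∣ Nat.card T.J := by rw [T.J_card]; norm_num
    have : Fact (Nat.Prime 2) := ⟨Nat.prime_two⟩
    obtain ⟨j, hj⟩ := exists_prime_orderOf_dvd_card' 2 h2
    have hj' : j ∈ (T.N.subgroupOf (centralizer {T.z})).map T.f := by rw [h]; exact mem_top j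
    obtain ⟨m, hm, rfl⟩ := hj'
    have hm' : (m : C) ∈ T.N := hm
    have h3 : m ^ Nat.card T.N = 1 := by
      apply Subtype.ext
      show (m : C) ^ Nat.card T.N = 1
      have h4 := pow_card_eq_one' (x := (⟨m, hm'⟩ : T.N))
      exact congrArg Subtype.val h4
    have h5 : orderOf (T.f m) ∣ Nat.card T.N := by
      apply orderOf_dvd_of_pow_eq_one
      rw [← map_pow, h3, map_one]
    rw [hj] at h5
    exact (Nat.not_even_iff_odd.2 T.N_odd) (even_iff_two_dvd.2 h5)

/-- the quotient modulo `⟨x⟩` -/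
def q : C →* C ⧸ (zpowers T.x) := QuotientGroup.mk' (zpowers T.x)

theorem q_surj : Function.Surjective T.q := QuotientGroup.mk'_surjective _

theorem q_eq_one {a : C} : T.q a = 1 ↔ a ∈ zpowers T.x := by
  rw [q, ← MonoidHom.mem_ker, QuotientGroup.ker_mk']

theorem q_eq {a b : C} : T.q a = T.q b ↔ a * b⁻¹ ∈ zpowers T.x := by
  rw [← q_eq_one, map_mul, map_inv, mul_inv_eq_one]

instance nNb : (T.N.map T.q).Normal := Subgroup.Normal.map inferInstance _ T.q_surj

/-- conjugation by `z` on `N / ⟨x⟩` -/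
def phi : (T.N.map T.q) →* (T.N.map T.q) := (MulAut.conjNormal (T.q T.z) : MulAut (T.N.map T.q)).toMonoidHom

theorem phi_apply (g : T.N.map T.q) : ((T.phi g : T.N.map T.q) : C ⧸ (zpowers T.x)) = T.q T.z * g * (T.q T.z)⁻¹ := rfl

theorem phi_fpf : MonoidHom.FixedPointFree T.phi := by
  rintro ⟨_, ⟨n, hn, rfl⟩⟩ hg
  have h1 : T.q T.z * T.q n * (T.q T.z)⁻¹ = T.q n := congrArg Subtype.val hg
  rw [← map_mul, ← map_inv, ← map_mul, q_eq] at h1
  obtain ⟨t, ht⟩ : ∃ t, t = T.z * n * T.z⁻¹ * n⁻¹ := ⟨_, rfl⟩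
  rw [← ht] at h1
  have hz : T.z⁻¹ = T.z := inv_eq_of_mul_eq_one_left T.z_sq
  have h2 : T.z * n * T.z⁻¹ = t * n := by rw [ht]; group
  have h3 : n = t * t * n := by
    have hc := T.cen_of_mem h1
    calc n = T.z * T.z * n * (T.z * T.z)⁻¹ := by rw [T.z_sq]; simp
      _ = T.z * (T.z * n * T.z⁻¹) * T.z⁻¹ := by group
      _ = T.z * (t * n) * T.z⁻¹ := by rw [h2]
      _ = (T.z * t) * n * T.z⁻¹ := by group
      _ = (t * T.z) * n * T.z⁻¹ := by rw [hc]
      _ = t * (T.z * n * T.z⁻¹) := by group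
      _ = t * t * n := by rw [h2]; group
  have h4 : t = 1 := T.eq_one_of_sq h1 (by
    have := mul_right_cancel (b := n) (a := 1) (c := t * t) (by rw [one_mul]; exact h3)
    exact this.symm)
  rw [h4, one_mul] at h2
  have h5 : n * T.z = T.z * n := by
    calc n * T.z = T.z * n * T.z⁻¹ * T.z := by rw [h2]
      _ = T.z * n := by group
  have h6 := T.NH hn h5
  apply Subtype.ext
  exact T.q_eq_one.2 h6

theorem phi_inv : Function.Involutive T.phi := by
  intro g
  apply Subtype.ext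
  rw [phi_apply, phi_apply]
  have h : T.q T.z * T.q T.z = 1 := by rw [← map_mul, T.z_sq, map_one]
  calc T.q T.z * (T.q T.z * g * (T.q T.z)⁻¹) * (T.q T.z)⁻¹ = (T.q T.z * T.q T.z) * g * (T.q T.z * T.q T.z)⁻¹ := by group
    _ = g := by rw [h]; simp

/-- (2) `z` inverts `N / ⟨x⟩` -/
theorem z_inv {n : C} (hn : n ∈ T.N) : T.z * n * T.z⁻¹ * n ∈ zpowers T.x := by
  have h := congrFun (T.phi_fpf.coe_eq_inv_of_involutive T.phi_inv) ⟨T.q n, mem_map_of_mem _ hn⟩
  have h1 : T.q T.z * T.q n * (T.q T.z)⁻¹ = (T.q n)⁻¹ := congrArg Subtype.val h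
  rw [← T.q_eq_one, map_mul, map_mul, map_mul, map_inv, h1, inv_mul_cancel]

theorem N_comm {a b : C} (ha : a ∈ T.N) (hb : b ∈ T.N) : T.q a * T.q b = T.q b * T.q a := by
  have h := T.phi_fpf.commute_all_of_involutive T.phi_inv ⟨T.q a, mem_map_of_mem _ ha⟩ ⟨T.q b, mem_map_of_mem _ hb⟩
  exact congrArg Subtype.val h.eq

theorem N_nilp : Group.IsNilpotent T.N := by
  have hc : ∀ a b : T.N.map T.q, a * b = b * a := by
    rintro ⟨_, ⟨a, ha, rfl⟩⟩ ⟨_, ⟨b, hb, rfl⟩⟩
    exact Subtype.ext (T.N_comm ha hb)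
  have hn : Group.IsNilpotent (T.N.map T.q) := by
    letI : CommGroup (T.N.map T.q) := { (inferInstance : Group (T.N.map T.q)) with mul_comm := hc }
    exact CommGroup.isNilpotent
  refine Subgroup.isNilpotent_of_ker_le_center (T.q.subgroupMap T.N) ?_
  intro n hn
  have h1 : T.q (n : C) = 1 := congrArg Subtype.val hn
  rw [q_eq_one] at h1
  rw [mem_center_iff]
  intro g
  apply Subtype.ext
  exact T.cen_of_mem h1 g

/-- (3) the Sylow 5-subgroup of `N` -/
theorem exists_W : ∃ W : Subgroup C, W.Normal ∧ W ≤ T.N ∧ IsPGroup 5 W ∧ ∀ n ∈ T.N, ∀ m : ℕ, n ^ 5 ^ m = 1 → n ∈ W := by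
  obtain ⟨P⟩ : Nonempty (Sylow 5 T.N) := inferInstance
  have hnil := T.N_nilp
  have h03 : Group.IsNilpotent T.N ↔ ∀ (p : ℕ) (_hp : Fact p.Prime) (P : Sylow p T.N), (↑P : Subgroup T.N).Normal :=
    (Group.isNilpotent_of_finite_tfae (G := T.N)).out 0 3
  have hP : (P : Subgroup T.N).Normal := h03.1 hnil 5 inferInstance P
  have hch := P.characteristic_of_normal hP
  refine ⟨(P : Subgroup T.N).map T.N.subtype, inferInstance, map_subtype_le _, ?_, ?_⟩
  · exact P.isPGroup'.map _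
  · intro n hn m hm
    have hp : IsPGroup 5 (zpowers (⟨n, hn⟩ : T.N)) := by
      rintro ⟨_, ⟨k, rfl⟩⟩
      refine ⟨m, Subtype.ext ?_⟩
      show ((⟨n, hn⟩ : T.N) ^ k) ^ 5 ^ m = 1
      rw [← zpow_natCast, ← zpow_mul, mul_comm, zpow_mul, zpow_natCast]
      have : (⟨n, hn⟩ : T.N) ^ 5 ^ m = 1 := Subtype.ext hm
      rw [this, one_zpow]
    obtain ⟨Q, hQ⟩ := hp.exists_le_sylow
    have hu := P.unique_of_normal hP
    have hQP : Q = P := Subsingleton.elim _ _
    exact ⟨⟨n, hn⟩, hQP ▸ hQ (mem_zpowers _), rfl⟩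

/-! ### cardinalities -/

theorem N_sup_H : (centralizer {T.z} : Subgroup C) ⊔ T.N = ⊤ := by
  rw [eq_top_iff]
  intro g _
  obtain ⟨n, hn, h, hh, rfl⟩ := T.N_sup g
  exact mul_mem (mem_sup_right hn) (mem_sup_left (mem_centralizer_singleton_iff.2 hh))

theorem X_le_N : zpowers T.x ≤ T.N := zpowers_le.2 T.x_N

theorem X_le_H : zpowers T.x ≤ (centralizer {T.z} : Subgroup C) := by
  rw [zpowers_le, mem_centralizer_singleton_iff]
  exact (T.x_cen T.z).symm

theorem N_inf_H : T.N ⊓ (centralizer {T.z} : Subgroup C) = zpowers T.x := by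
  apply le_antisymm
  · rintro n ⟨hn, hh⟩
    exact T.NH hn (mem_centralizer_singleton_iff.1 hh)
  · exact le_inf T.X_le_N T.X_le_H

theorem card_eq (N H : Subgroup C) : Nat.card ↥(N ⊓ H) * N.relIndex H = Nat.card H := by
  have h := relIndex_mul_relIndex (⊥ : Subgroup C) (N ⊓ H) H bot_le inf_le_right
  rwa [relIndex_bot_left, relIndex_bot_left, inf_relIndex_right] at h

theorem card_H : 5 * T.N.index = Nat.card (centralizer {T.z} : Subgroup C) := by
  have h := card_eq T.N (centralizer {T.z})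
  rw [N_inf_H, card_X] at h
  have h2 := relIndex_sup_right (K := T.N) (H := (centralizer {T.z} : Subgroup C))
  rw [N_sup_H, relIndex_top_right] at h2
  rw [h2]
  exact h

theorem dvd_card_H : 125 ∣ Nat.card (centralizer {T.z} : Subgroup C) := by
  have h1 : Nat.card T.f.ker * 604800 = Nat.card (centralizer {T.z} : Subgroup C) := by
    rw [← T.J_card, ← T.f.ker.card_mul_index, index_ker, MonoidHom.range_eq_top.2 T.f_surj, card_top]
  have h2 : 5 ∣ Nat.card T.f.ker := by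
    have hx : (⟨T.x, T.X_le_H (mem_zpowers _)⟩ : ↥(centralizer {T.z} : Subgroup C)) ∈ T.f.ker := by
      rw [MonoidHom.mem_ker, T.f_ker]
      exact ⟨1, Or.inl (pow_one _).symm⟩
    have h3 := orderOf_dvd_natCard (⟨_, hx⟩ : T.f.ker)
    rw [← Subgroup.orderOf_coe, ← Subgroup.orderOf_coe] at h3
    rwa [show (((⟨(⟨T.x, T.X_le_H (mem_zpowers _)⟩ : ↥(centralizer {T.z} : Subgroup C)), hx⟩ : T.f.ker) :
      ↥(centralizer {T.z} : Subgroup C)) : C) = T.x from rfl, T.x_ord] at h3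
  rw [← h1]
  exact Nat.mul_dvd_mul h2 (by norm_num : 25 ∣ 604800)

theorem index_N : 25 ∣ T.N.index := by
  have h := T.dvd_card_H
  rw [← T.card_H] at h
  exact Nat.dvd_of_mul_dvd_mul_left (by norm_num : 0 < 5) (by simpa using h)

/-- (4) 5-subgroups of `N` have order at most `5 ^ 7` -/
theorem card_le {W : Subgroup C} (hW : W ≤ T.N) {k : ℕ} (hk : Nat.card W = 5 ^ k) : k ≤ 7 := by
  by_contra hcon
  apply T.not_dvd
  have h1 : 5 ^ 8 ∣ Nat.card T.N := (pow_dvd_pow 5 (by omega : 8 ≤ k)).trans (hk ▸ card_dvd_of_le hW)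
  rw [← T.N.card_mul_index]
  have h2 := Nat.mul_dvd_mul h1 T.index_N
  norm_num at h2 ⊢
  exact h2

/-! ### the subgroup `S` -/

theorem S_pgroup : IsPGroup 5 T.S := IsPGroup.of_card T.S_card

/-- (5) -/
theorem card_S_N : 125 ≤ Nat.card ↥(T.N ⊓ T.S) := by
  obtain ⟨R, hR⟩ : ∃ R : Subgroup C, R = (centralizer {T.z} : Subgroup C) ⊓ (T.S ⊔ T.N) := ⟨_, rfl⟩
  have hRH : R ≤ (centralizer {T.z} : Subgroup C) := by rw [hR]; exact inf_le_left
  have hRN : R ⊔ T.N = T.S ⊔ T.N := by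
    apply le_antisymm
    · rw [hR]
      exact sup_le inf_le_right le_sup_right
    · intro g hg
      obtain ⟨n, hn, h, hh, rfl⟩ := T.N_sup g
      refine mul_mem (mem_sup_right hn) (mem_sup_left ?_)
      rw [hR]
      refine ⟨mem_centralizer_singleton_iff.2 hh, ?_⟩
      have := mul_mem (inv_mem (mem_sup_right (S := T.S) hn)) hg
      rwa [inv_mul_cancel_left] at this
  have hrel : T.N.relIndex R = T.N.relIndex T.S := by
    rw [← relIndex_sup_right (K := T.N) (H := R), ← relIndex_sup_right (K := T.N) (H := T.S), hRN]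
  have hXR : zpowers T.x ≤ R := by
    rw [hR]
    exact le_inf T.X_le_H (T.X_le_N.trans le_sup_right)
  have hNR : T.N ⊓ R = zpowers T.x := by
    apply le_antisymm
    · rw [← T.N_inf_H]
      exact inf_le_inf_left _ hRH
    · exact le_inf T.X_le_N hXR
  have hcR := card_eq T.N R
  rw [hNR, card_X, hrel] at hcR
  have hcS := card_eq T.N T.S
  rw [T.S_card] at hcS
  obtain ⟨j, hj4, hj⟩ : ∃ j ≤ 4, T.N.relIndex T.S = 5 ^ j := by
    have := (Nat.dvd_prime_pow (by norm_num : Nat.Prime 5)).1 (Dvd.intro_left _ hcS)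
    exact this
  rw [hj] at hcR hcS
  have hRp : IsPGroup 5 R := IsPGroup.of_card (n := j + 1) (by rw [← hcR, pow_succ]; ring)
  have hRodd : Odd (Nat.card R) := by
    rw [← hcR]
    exact Odd.mul (by decide) (Odd.pow (by decide))
  -- `j ≤ 2`
  have hj2 : j ≤ 2 := by
    have h1 := (R.subgroupOf (centralizer {T.z} : Subgroup C)).card_mul_index
    obtain ⟨g, hg⟩ : ∃ g : ↥(R.subgroupOf (centralizer {T.z} : Subgroup C)) →* T.J,
      g = T.f.comp (R.subgroupOf (centralizer {T.z} : Subgroup C)).subtype := ⟨_, rfl⟩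
    have h2 := g.ker.card_mul_index
    rw [index_ker] at h2
    have h3 : Nat.card g.ker ∣ 5 := by
      rw [← T.card_X]
      let θ : g.ker →* zpowers T.x := {
        toFun := fun a => ⟨((a : ↥(R.subgroupOf (centralizer {T.z} : Subgroup C))) :
          ↥(centralizer {T.z} : Subgroup C)), T.mem_of_ker ((DFunLike.congr_fun hg a.1).symm.trans a.2) hRodd a.1.2⟩
        map_one' := rfl
        map_mul' := fun _ _ => rfl }
      refine card_dvd_of_injective θ ?_
      intro a b hab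
      have h5 : ((θ a : zpowers T.x) : C) = (θ b : zpowers T.x) := by rw [hab]
      exact Subtype.ext (Subtype.ext (Subtype.ext h5))
    have h4 : Nat.card ↥(R.subgroupOf (centralizer {T.z} : Subgroup C)) = 5 * 5 ^ j := by
      rw [hcR]
      exact Nat.card_congr (subgroupOfEquivOfLe hRH).toEquiv
    rw [h4] at h2
    have h5 : Nat.card g.range ∣ 604800 := by
      rw [← T.J_card]
      exact card_subgroup_dvd_card _
    by_contra hcon
    have h6 : 5 ^ 3 ∣ Nat.card g.range := by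
      have h7 : 5 * 5 ^ 3 ∣ Nat.card g.ker * Nat.card g.range := by
        rw [h2]
        exact Nat.mul_dvd_mul_left 5 (pow_dvd_pow 5 (by omega))
      rcases (Nat.dvd_prime (by norm_num : Nat.Prime 5)).1 h3 with h8 | h8
      · rw [h8, one_mul] at h7
        exact (Dvd.intro_left _ rfl).trans h7
      · rw [h8] at h7
        exact Nat.dvd_of_mul_dvd_mul_left (by norm_num) h7
    have h9 := h6.trans h5
    norm_num at h9
  -- `j ≠ 2`
  have hj2' : j ≠ 2 := by
    intro hj2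
    refine T.no125 R hRH ?_ (by rw [← hcR, hj2]; norm_num)
    intro r hr
    rw [mem_centralizer_singleton_iff]
    have hr' := hr
    rw [hR] at hr'
    obtain ⟨hrz, hrs⟩ := mem_inf.1 hr'
    rw [mem_centralizer_singleton_iff] at hrz
    obtain ⟨s, hs, n, hn, rfl⟩ := mem_sup_of_normal_right.1 hrs
    have hsu := mem_centralizer_singleton_iff.1 (T.S_u hs)
    -- the commutator
    obtain ⟨t, ht⟩ : ∃ t, t = T.u * (s * n) * T.u⁻¹ * (s * n)⁻¹ := ⟨_, rfl⟩
    have h1 : t ∈ T.N := by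
      have h2 : t = s * (T.u * n * T.u⁻¹ * n⁻¹) * s⁻¹ := by
        rw [ht]
        have h3 : T.u * s = s * T.u := hsu.symm
        calc T.u * (s * n) * T.u⁻¹ * (s * n)⁻¹ = (T.u * s) * n * T.u⁻¹ * n⁻¹ * s⁻¹ := by group
          _ = (s * T.u) * n * T.u⁻¹ * n⁻¹ * s⁻¹ := by rw [h3]
          _ = s * (T.u * n * T.u⁻¹ * n⁻¹) * s⁻¹ := by group
      rw [h2]
      exact T.N_nor.conj_mem _ (mul_mem (T.N_nor.conj_mem _ hn _) (inv_mem hn)) _
    have huz : T.u ∈ (centralizer {T.z} : Subgroup C) := mem_centralizer_singleton_iff.2 T.uz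
    have hrz' : s * n ∈ (centralizer {T.z} : Subgroup C) := mem_centralizer_singleton_iff.2 hrz
    have h2 : t ∈ (centralizer {T.z} : Subgroup C) := by
      rw [ht]
      exact mul_mem (mul_mem (mul_mem huz hrz') (inv_mem huz)) (inv_mem hrz')
    have h3 : t ∈ zpowers T.x := by
      rw [← T.N_inf_H]
      exact ⟨h1, h2⟩
    have h4 : T.u * (s * n) * T.u⁻¹ = t * (s * n) := by rw [ht]; group
    have h5 : t * t = 1 := by
      have hc := T.cen_of_mem h3
      have h6 : s * n = t * t * (s * n) := by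
        calc s * n = T.u * T.u * (s * n) * (T.u * T.u)⁻¹ := by rw [T.u_sq]; simp
          _ = T.u * (T.u * (s * n) * T.u⁻¹) * T.u⁻¹ := by group
          _ = T.u * (t * (s * n)) * T.u⁻¹ := by rw [h4]
          _ = (T.u * t) * (s * n) * T.u⁻¹ := by group
          _ = (t * T.u) * (s * n) * T.u⁻¹ := by rw [hc]
          _ = t * (T.u * (s * n) * T.u⁻¹) := by group
          _ = t * t * (s * n) := by rw [h4]; group
      have := mul_right_cancel (b := s * n) (a := 1) (c := t * t) (by rw [one_mul]; exact h6)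
      exact this.symm
    rw [T.eq_one_of_sq h3 h5, one_mul] at h4
    calc s * n * T.u = T.u * (s * n) * T.u⁻¹ * T.u := by rw [h4]
      _ = T.u * (s * n) := by group
  have hj1 : j ≤ 1 := by omega
  have h1 : 5 ^ j ≤ 5 := by
    calc 5 ^ j ≤ 5 ^ 1 := Nat.pow_le_pow_right (by norm_num) hj1
      _ = 5 := by norm_num
  by_contra hcon
  have h2 : Nat.card ↥(T.N ⊓ T.S) * 5 ^ j ≤ 124 * 5 := Nat.mul_le_mul (by omega) h1
  rw [hcS] at h2
  norm_num at h2

theorem rel_dvd : T.N.relIndex T.S ∣ 5 := by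
  have hcS := card_eq T.N T.S
  rw [T.S_card] at hcS
  obtain ⟨j, hj4, hj⟩ := (Nat.dvd_prime_pow (by norm_num : Nat.Prime 5)).1 (Dvd.intro_left _ hcS)
  have h1 := T.card_S_N
  rw [hj] at hcS ⊢
  have hj1 : j ≤ 1 := by
    by_contra hcon
    have h2 : 5 ^ 2 ≤ 5 ^ j := Nat.pow_le_pow_right (by norm_num) (by omega)
    have h3 := Nat.mul_le_mul h1 h2
    rw [hcS] at h3
    norm_num at h3
  calc 5 ^ j ∣ 5 ^ 1 := pow_dvd_pow 5 hj1
    _ = 5 := by norm_num

/-! ### the kernel on `W / ⟨x⟩` -/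

/-- elements acting trivially on `W / ⟨x⟩` -/
def K0 (W : Subgroup C) : Subgroup C := (centralizer (W.map T.q : Set (C ⧸ (zpowers T.x)))).comap T.q

theorem mem_K0 {W : Subgroup C} {g : C} : g ∈ T.K0 W ↔ ∀ w ∈ W, T.q g * T.q w = T.q w * T.q g := by
  rw [K0, mem_comap, mem_centralizer_iff]
  constructor
  · intro h w hw
    exact (h _ (mem_map_of_mem _ hw)).symm
  · rintro h _ ⟨w, hw, rfl⟩
    exact (h w hw).symm

theorem K0_normal {W : Subgroup C} (hWn : W.Normal) : (T.K0 W).Normal := by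
  have h1 : (W.map T.q).Normal := Subgroup.Normal.map hWn _ T.q_surj
  have h2 : (centralizer (W.map T.q : Set (C ⧸ (zpowers T.x)))).Normal := inferInstance
  exact h2.comap _

theorem N_le_K0 {W : Subgroup C} (hWN : W ≤ T.N) : T.N ≤ T.K0 W := by
  intro n hn
  rw [mem_K0]
  intro w hw
  exact T.N_comm hn (hWN hw)

theorem eq_one_of_odd {G : Type*} [Group G] {m : ℕ} (hm : Odd m) {g : G} (h1 : g ^ m = 1) (h2 : g * g = 1) : g = 1 := by
  obtain ⟨k, rfl⟩ := hm
  rw [pow_succ, pow_mul, pow_two, h2, one_pow, one_mul] at h1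
  exact h1

theorem z_notin_K0 {W : Subgroup C} (hWN : W ≤ T.N) (hW : 125 ≤ Nat.card W) : T.z ∉ T.K0 W := by
  intro hz
  rw [mem_K0] at hz
  have h1 : W ≤ zpowers T.x := by
    intro w hw
    have h2 := hz w hw
    have h3 := T.z_inv (hWN hw)
    rw [← q_eq_one, map_mul, map_mul, map_mul, map_inv, h2, mul_inv_cancel_right] at h3
    have h4 : w ^ Nat.card T.N = 1 := by
      have h5 := pow_card_eq_one' (x := (⟨w, hWN hw⟩ : T.N))
      exact congrArg Subtype.val h5
    have h5 : T.q w ^ Nat.card T.N = 1 := by rw [← map_pow, h4, map_one]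
    exact T.q_eq_one.1 (eq_one_of_odd T.N_odd h5 h3)
  have h2 := card_le_of_le h1
  rw [card_X] at h2
  omega

/-- (6) -/
theorem K0_H {W : Subgroup C} (hWn : W.Normal) (hWN : W ≤ T.N) (hNS : T.N ⊓ T.S ≤ W) {g : C} (hg : g ∈ T.K0 W)
    (hz : g * T.z = T.z * g) : g ∈ zpowers T.x := by
  have hW : 125 ≤ Nat.card W := T.card_S_N.trans (card_le_of_le hNS)
  have hKn := T.K0_normal hWn
  have hzK := T.z_notin_K0 hWN hW
  have hxK : zpowers T.x ≤ T.K0 W := T.X_le_N.trans (T.N_le_K0 hWN)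
  have hnor : (((T.K0 W).subgroupOf (centralizer {T.z})).map T.f).Normal :=
    Subgroup.Normal.map inferInstance _ T.f_surj
  rcases hnor.eq_bot_or_eq_top with h | h
  · have hmem : g ∈ (centralizer {T.z} : Subgroup C) := mem_centralizer_singleton_iff.2 hz
    have h1 : T.f ⟨g, hmem⟩ = 1 := by
      rw [← mem_bot, ← h]
      exact mem_map_of_mem _ (show (⟨g, hmem⟩ : ↥(centralizer {T.z} : Subgroup C)) ∈ (T.K0 W).subgroupOf _ from hg)
    obtain ⟨k, hk | hk⟩ := (T.f_ker _).1 h1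
    · have hk' : g = T.x ^ k := hk
      rw [hk']
      exact pow_mem (mem_zpowers _) k
    · exfalso
      have hk' : g = T.x ^ k * T.z := hk
      apply hzK
      have h2 : T.z = (T.x ^ k)⁻¹ * g := by rw [hk']; group
      rw [h2]
      exact mul_mem (inv_mem (hxK (pow_mem (mem_zpowers _) k))) hg
  · exfalso
    -- every element of `C` is in `K0` or `K0 z`
    have h1 : ∀ c : C, c ∈ T.K0 W ∨ c * T.z ∈ T.K0 W := by
      intro c
      obtain ⟨n, hn, hh, hhz, rfl⟩ := T.N_sup c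
      have hhm : hh ∈ (centralizer {T.z} : Subgroup C) := mem_centralizer_singleton_iff.2 hhz
      have h2 : T.f ⟨hh, hhm⟩ ∈ ((T.K0 W).subgroupOf (centralizer {T.z})).map T.f := by rw [h]; exact mem_top _
      obtain ⟨k, hk, hkf⟩ := h2
      have hkK : (k : C) ∈ T.K0 W := hk
      have h3 : T.f (k⁻¹ * ⟨hh, hhm⟩) = 1 := by rw [map_mul, map_inv, hkf, inv_mul_cancel]
      have hnK := T.N_le_K0 hWN hn
      obtain ⟨i, hi | hi⟩ := (T.f_ker _).1 h3
      · left
        have hi' : (k : C)⁻¹ * hh = T.x ^ i := hi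
        refine mul_mem hnK ?_
        have h4 : hh = k * T.x ^ i := by rw [← hi']; group
        rw [h4]
        exact mul_mem hkK (hxK (pow_mem (mem_zpowers _) i))
      · right
        have hi' : (k : C)⁻¹ * hh = T.x ^ i * T.z := hi
        have h4 : hh * T.z = k * T.x ^ i := by
          calc hh * T.z = k * ((k : C)⁻¹ * hh) * T.z := by group
            _ = k * (T.x ^ i * T.z) * T.z := by rw [hi']
            _ = k * T.x ^ i * (T.z * T.z) := by group
            _ = k * T.x ^ i := by rw [T.z_sq, mul_one]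
        rw [mul_assoc, h4]
        exact mul_mem hnK (mul_mem hkK (hxK (pow_mem (mem_zpowers _) i)))
    -- `S ≤ K0`
    have h2 : T.S ≤ T.K0 W := by
      intro s hs
      have h3 : s * s ∈ T.K0 W := by
        rcases h1 s with h4 | h4
        · exact mul_mem h4 h4
        · have hz' : T.z⁻¹ = T.z := inv_eq_of_mul_eq_one_left T.z_sq
          have h5 : s * s = (s * T.z) * (T.z * (s * T.z) * T.z⁻¹) := by
            rw [hz']
            calc s * s = s * (T.z * T.z) * s * (T.z * T.z) := by rw [T.z_sq]; simp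
              _ = (s * T.z) * (T.z * (s * T.z) * T.z) := by group
          rw [h5]
          exact mul_mem h4 (hKn.conj_mem _ h4 _)
      have h4 : s ^ Nat.card T.S = 1 := by
        have h5 := pow_card_eq_one' (x := (⟨s, hs⟩ : T.S))
        exact congrArg Subtype.val h5
      rw [T.S_card] at h4
      have h5 : s = (s * s) ^ 313 := by
        have h6 : s ^ (5 ^ 4) * s = s ^ (2 * 313) := by rw [← pow_succ]; norm_num
        rw [h4, one_mul, pow_mul, pow_two] at h6
        exact h6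
      rw [h5]
      exact pow_mem h3 _
    -- `S / ⟨x⟩` is abelian
    obtain ⟨s₁, hs₁, s₂, hs₂, h3⟩ := T.S_nab
    apply h3
    rw [← q_eq_one, map_mul, map_mul, map_mul, map_inv, map_inv, mul_inv_eq_one, mul_inv_eq_iff_eq_mul]
    -- the group `Sb = S / ⟨x⟩`
    obtain ⟨r, hr⟩ : ∃ r : C ⧸ (zpowers T.x) →* C ⧸ T.N, ∀ c, r (T.q c) = QuotientGroup.mk' T.N c :=
      ⟨QuotientGroup.map (zpowers T.x) T.N (MonoidHom.id C) (by rw [comap_id]; exact T.X_le_N), fun _ => rfl⟩
    obtain ⟨g', hg'⟩ : ∃ g' : (T.S.map T.q) →* (T.S.map (QuotientGroup.mk' T.N)), ∀ a, (g' a : C ⧸ T.N) = r a :=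
      ⟨{ toFun := fun a => ⟨r a, by
          obtain ⟨_, ⟨s, hs, rfl⟩⟩ := a
          exact ⟨s, hs, (hr s).symm⟩⟩
         map_one' := Subtype.ext (map_one r)
         map_mul' := fun a b => Subtype.ext (map_mul r _ _) }, fun _ => rfl⟩
    have hcard : Nat.card (T.S.map (QuotientGroup.mk' T.N)) ∣ 5 := by
      have h4 : Nat.card (T.S.map (QuotientGroup.mk' T.N)) = T.N.relIndex T.S := by
        rw [← relIndex_ker, QuotientGroup.ker_mk']
      rw [h4]
      exact T.rel_dvd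
    have hcyc : IsCyclic (T.S.map (QuotientGroup.mk' T.N)) := by
      rcases (Nat.dvd_prime (by norm_num : Nat.Prime 5)).1 hcard with h4 | h4
      · have := (Nat.card_eq_one_iff_unique.1 h4).1
        infer_instance
      · exact isCyclic_of_prime_card h4
    have hcom := g'.isMulCommutative_of_isCyclic_of_ker_le_center (by
      rintro ⟨_, ⟨s, hs, rfl⟩⟩ ha
      have h4 : r (T.q s) = 1 := by
        rw [← hg' ⟨_, ⟨s, hs, rfl⟩⟩]
        exact congrArg Subtype.val ha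
      rw [hr, ← MonoidHom.mem_ker, QuotientGroup.ker_mk'] at h4
      rw [mem_center_iff]
      rintro ⟨_, ⟨t, ht, rfl⟩⟩
      apply Subtype.ext
      exact T.mem_K0.1 (h2 ht) s (hNS ⟨h4, hs⟩))
    exact congrArg Subtype.val (hcom.is_comm.comm (⟨T.q s₁, mem_map_of_mem _ hs₁⟩ : T.S.map T.q)
      ⟨T.q s₂, mem_map_of_mem _ hs₂⟩)

/-! ### an element of order 7 -/

theorem exists_y : ∃ y : C, y * T.z = T.z * y ∧ orderOf y = 7 := by
  have h1 : Nat.card T.f.ker * 604800 = Nat.card (centralizer {T.z} : Subgroup C) := by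
    rw [← T.J_card, ← T.f.ker.card_mul_index, index_ker, MonoidHom.range_eq_top.2 T.f_surj, card_top]
  have h2 : 7 ∣ Nat.card (centralizer {T.z} : Subgroup C) := by
    rw [← h1]
    exact Dvd.dvd.mul_left (by norm_num) _
  have : Fact (Nat.Prime 7) := ⟨by norm_num⟩
  obtain ⟨y, hy⟩ := exists_prime_orderOf_dvd_card' 7 h2
  refine ⟨y, mem_centralizer_singleton_iff.1 y.2, ?_⟩
  rw [← hy]
  exact Subgroup.orderOf_coe y

/-- (7) -/
theorem dich {y : C} (hy : orderOf y = 7) {B : Subgroup C} (hBy : ∀ b ∈ B, y * b * y⁻¹ ∈ B) (hx : T.x ∈ B) {k : ℕ}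
    (hk : Nat.card B = 5 ^ k) (hk7 : k ≤ 7) :
    (∀ b ∈ B, y * b = b * y) ∨ (k = 7 ∧ ∀ b ∈ B, y * b = b * y → b ∈ zpowers T.x) := by
  classical
  have : Fact (Nat.Prime 7) := ⟨by norm_num⟩
  obtain ⟨D, hD⟩ : ∃ D : Subgroup C, D = B ⊓ centralizer {y} := ⟨_, rfl⟩
  have hDm : ∀ b, b ∈ D ↔ b ∈ B ∧ y * b = b * y := by
    intro b
    rw [hD, mem_inf, mem_centralizer_singleton_iff, eq_comm]
  obtain ⟨c, hck, hc⟩ : ∃ c ≤ k, Nat.card D = 5 ^ c := by
    have h1 : Nat.card D ∣ 5 ^ k := by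
      rw [← hk, hD]
      exact card_dvd_of_le inf_le_left
    exact (Nat.dvd_prime_pow (by norm_num : Nat.Prime 5)).1 h1
  have hXD : zpowers T.x ≤ D := by
    rw [zpowers_le, hDm]
    exact ⟨hx, T.x_cen y⟩
  have hc1 : 1 ≤ c := by
    by_contra hcon
    have h1 := card_le_of_le hXD
    rw [card_X, hc, show c = 0 by omega] at h1
    norm_num at h1
  -- counting
  have : Fintype B := Fintype.ofFinite B
  obtain ⟨f, hf⟩ : ∃ f : Function.End B, ∀ b : B, ((f b : B) : C) = y * b * y⁻¹ :=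
    ⟨fun b => ⟨y * b * y⁻¹, hBy b b.2⟩, fun _ => rfl⟩
  have hfpow : ∀ (j : ℕ) (b : B), (((f ^ j) b : B) : C) = y ^ j * b * (y ^ j)⁻¹ := by
    intro j
    induction j with
    | zero =>
      intro b
      rw [pow_zero, pow_zero]
      show (b : C) = _
      group
    | succ j ih =>
      intro b
      rw [pow_succ]
      show (((f ^ j) (f b) : B) : C) = _
      rw [ih, hf, pow_succ]
      group
  have hf7 : f ^ 7 ^ 1 = 1 := by
    funext b
    apply Subtype.ext
    rw [hfpow, pow_one, ← hy, pow_orderOf_eq_one]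
    show _ = (b : C)
    group
  have hmod := Equiv.Perm.card_fixedPoints_modEq hf7
  have hfix : Nat.card (Function.fixedPoints f) = Nat.card D := by
    refine Nat.card_congr ⟨fun b => ⟨(b : B), ?_⟩, fun d => ⟨⟨d, ((hDm _).1 d.2).1⟩, ?_⟩, fun _ => rfl, fun _ => rfl⟩
    · rw [hDm]
      refine ⟨(b : B).2, ?_⟩
      have h1 : f b = b := b.2
      have h2 := hf b
      rw [h1] at h2
      calc y * (b : B) = y * (b : B) * y⁻¹ * y := by group
        _ = (b : B) * y := by rw [← h2]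
    · show f _ = _
      apply Subtype.ext
      rw [hf]
      show y * (d : C) * y⁻¹ = d
      rw [((hDm _).1 d.2).2, mul_inv_cancel_right]
  simp only [← Nat.card_eq_fintype_card] at hmod
  rw [hfix, hc, hk] at hmod
  have hcase : c = k ∨ (k = 7 ∧ c = 1) := by
    interval_cases k <;> interval_cases c <;> simp_all [Nat.ModEq]
  rcases hcase with h | ⟨h7, h1⟩
  · left
    intro b hb
    have h2 : D = B := by
      apply eq_of_le_of_card_ge
      · rw [hD]; exact inf_le_left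
      · rw [hc, hk, h]
    rw [← h2] at hb
    exact ((hDm _).1 hb).2
  · right
    refine ⟨h7, fun b hb hyb => ?_⟩
    have h2 : zpowers T.x = D := by
      apply eq_of_le_of_card_ge hXD
      rw [hc, h1, card_X]
      norm_num
    rw [h2, hDm]
    exact ⟨hb, hyb⟩

/-! ### `W` is not abelian -/

/-- if `W` is abelian then `N` centralizes it -/
theorem N_cent {W : Subgroup C} (hWN : W ≤ T.N) (hWm : ∀ n ∈ T.N, ∀ m : ℕ, n ^ 5 ^ m = 1 → n ∈ W)
    (hab : ∀ a ∈ W, ∀ b ∈ W, a * b = b * a) {n w : C} (hn : n ∈ T.N) (hw : w ∈ W) : n * w * n⁻¹ = w := by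
  obtain ⟨t, ht⟩ : ∃ t, t = n * w * n⁻¹ * w⁻¹ := ⟨_, rfl⟩
  have htX : t ∈ zpowers T.x := by
    rw [ht, ← q_eq_one, map_mul, map_mul, map_mul, map_inv, map_inv, T.N_comm hn (hWN hw), mul_inv_cancel_right,
      mul_inv_cancel]
  have h1 : n * w * n⁻¹ = t * w := by rw [ht]; group
  have h2 : ∀ j : ℕ, n ^ j * w * (n ^ j)⁻¹ = t ^ j * w := by
    intro j
    induction j with
    | zero => simp
    | succ j ih =>
      have hc := T.cen_of_mem (pow_mem htX j) n
      calc n ^ (j + 1) * w * (n ^ (j + 1))⁻¹ = n * (n ^ j * w * (n ^ j)⁻¹) * n⁻¹ := by rw [pow_succ']; group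
        _ = n * (t ^ j * w) * n⁻¹ := by rw [ih]
        _ = (n * t ^ j) * w * n⁻¹ := by group
        _ = (t ^ j * n) * w * n⁻¹ := by rw [hc]
        _ = t ^ j * (n * w * n⁻¹) := by group
        _ = t ^ (j + 1) * w := by rw [h1, pow_succ, mul_assoc]
  have h3 : n ^ (ordCompl[5] (orderOf n)) ∈ W := by
    refine hWm _ (pow_mem hn _) ((orderOf n).factorization 5) ?_
    rw [← pow_mul, mul_comm, Nat.ordProj_mul_ordCompl_eq_self, pow_orderOf_eq_one]
  have h4 := h2 (ordCompl[5] (orderOf n))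
  rw [hab _ h3 _ hw, mul_inv_cancel_right] at h4
  have h5 : t ^ (ordCompl[5] (orderOf n)) = 1 := by
    have := mul_right_cancel (b := w) (a := 1) (c := t ^ (ordCompl[5] (orderOf n))) (by rw [one_mul]; exact h4)
    exact this.symm
  have h6 : t = 1 := by
    have h7 := T.pow_of_mem htX
    have h8 : Nat.Coprime (ordCompl[5] (orderOf n)) 5 :=
      (Nat.coprime_ordCompl (by norm_num : Nat.Prime 5) (orderOf_pos n).ne').symm
    have h9 : orderOf t ∣ Nat.gcd (ordCompl[5] (orderOf n)) 5 :=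
      Nat.dvd_gcd (orderOf_dvd_of_pow_eq_one h5) (orderOf_dvd_of_pow_eq_one h7)
    rw [h8.gcd_eq_one] at h9
    exact orderOf_eq_one_iff.1 (Nat.dvd_one.1 h9)
  rw [h1, h6, one_mul]

/-- the inverted representative of a coset of `⟨x⟩` -/
theorem exists_inv {w : C} (hw : w ∈ T.N) : ∃ s ∈ zpowers T.x, T.z * (w * s) * T.z⁻¹ = (w * s)⁻¹ := by
  obtain ⟨t, ht⟩ : ∃ t, t = T.z * w * T.z⁻¹ * w := ⟨_, rfl⟩
  have htX : t ∈ zpowers T.x := by rw [ht]; exact T.z_inv hw
  refine ⟨t ^ 2, pow_mem htX 2, ?_⟩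
  have h5 := T.pow_of_mem htX
  have hc : ∀ g, g * t ^ 2 = t ^ 2 * g := T.cen_of_mem (pow_mem htX 2)
  rw [eq_inv_iff_mul_eq_one]
  calc T.z * (w * t ^ 2) * T.z⁻¹ * (w * t ^ 2) = T.z * (w * t ^ 2) * T.z⁻¹ * w * t ^ 2 := by group
    _ = T.z * (t ^ 2 * w) * T.z⁻¹ * w * t ^ 2 := by rw [hc w]
    _ = (T.z * t ^ 2) * w * T.z⁻¹ * w * t ^ 2 := by group
    _ = (t ^ 2 * T.z) * w * T.z⁻¹ * w * t ^ 2 := by rw [hc T.z]
    _ = t ^ 2 * (T.z * w * T.z⁻¹ * w) * t ^ 2 := by group
    _ = t ^ 5 := by rw [← ht]; group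
    _ = 1 := h5

/-- (8) -/
theorem W_nab {W : Subgroup C} (hWn : W.Normal) (hWN : W ≤ T.N) (hWp : IsPGroup 5 W)
    (hWm : ∀ n ∈ T.N, ∀ m : ℕ, n ^ 5 ^ m = 1 → n ∈ W) (hNS : T.N ⊓ T.S ≤ W) (hxW : T.x ∈ W) :
    ¬ ∀ a ∈ W, ∀ b ∈ W, a * b = b * a := by
  intro hab
  have hz' : T.z⁻¹ = T.z := inv_eq_of_mul_eq_one_left T.z_sq
  let B : Subgroup C := {
    carrier := {w | w ∈ W ∧ T.z * w * T.z⁻¹ = w⁻¹ ∧ T.u * w = w * T.u}
    one_mem' := ⟨one_mem _, by simp, by simp⟩
    mul_mem' := by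
      rintro a b ⟨ha, ha1, ha2⟩ ⟨hb, hb1, hb2⟩
      refine ⟨mul_mem ha hb, ?_, ?_⟩
      · calc T.z * (a * b) * T.z⁻¹ = (T.z * a * T.z⁻¹) * (T.z * b * T.z⁻¹) := by group
          _ = a⁻¹ * b⁻¹ := by rw [ha1, hb1]
          _ = (b * a)⁻¹ := by group
          _ = (a * b)⁻¹ := by rw [hab b hb a ha]
      · rw [← mul_assoc, ha2, mul_assoc, hb2, mul_assoc]
    inv_mem' := by
      rintro a ⟨ha, ha1, ha2⟩
      refine ⟨inv_mem ha, ?_, ?_⟩
      · calc T.z * a⁻¹ * T.z⁻¹ = (T.z * a * T.z⁻¹)⁻¹ := by group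
          _ = a⁻¹⁻¹ := by rw [ha1]
      · rw [mul_inv_eq_iff_eq_mul]
        calc T.u = a⁻¹ * (a * T.u) := by group
          _ = a⁻¹ * T.u * a := by rw [← ha2]; group }
  have hBm : ∀ w, w ∈ B ↔ w ∈ W ∧ T.z * w * T.z⁻¹ = w⁻¹ ∧ T.u * w = w * T.u := fun w => Iff.rfl
  -- `B` is not trivial
  obtain ⟨b₀, hb₀, hb₀1⟩ : ∃ b ∈ B, b ≠ 1 := by
    obtain ⟨w, hw, hwX⟩ : ∃ w ∈ T.N ⊓ T.S, w ∉ zpowers T.x := by
      by_contra hcon
      push Not at hcon
      have h1 : T.N ⊓ T.S ≤ zpowers T.x := hcon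
      have h2 := card_le_of_le h1
      rw [card_X] at h2
      have h3 := T.card_S_N
      omega
    obtain ⟨s, hs, hsz⟩ := T.exists_inv hw.1
    refine ⟨w * s, ⟨mul_mem (hNS hw) (zpowers_le.2 hxW hs), hsz, ?_⟩, ?_⟩
    · have h1 := mem_centralizer_singleton_iff.1 (T.S_u hw.2)
      rw [← mul_assoc, ← h1, mul_assoc, T.cen_of_mem hs T.u, ← mul_assoc]
    · intro h1
      apply hwX
      rw [mul_eq_one_iff_eq_inv] at h1
      rw [h1]
      exact inv_mem hs
  have hBp : IsPGroup 5 B := hWp.to_le (fun w hw => hw.1)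
  have hnt : Nontrivial B := ⟨⟨⟨b₀, hb₀⟩, 1, fun h => hb₀1 (congrArg Subtype.val h)⟩⟩
  -- `S` normalizes `B`
  have hconj : ∀ s ∈ T.S, ∀ b ∈ B, s * b * s⁻¹ ∈ B := by
    rintro s hs b ⟨hb, hb1, hb2⟩
    refine ⟨hWn.conj_mem b hb s, ?_, ?_⟩
    · obtain ⟨n, hn, h, hh, hsnh⟩ := T.N_sup s
      have h1 : s * b * s⁻¹ = h * b * h⁻¹ := by
        calc s * b * s⁻¹ = n * (h * b * h⁻¹) * n⁻¹ := by rw [hsnh]; group
          _ = h * b * h⁻¹ := T.N_cent hWN hWm hab hn (hWn.conj_mem b hb h)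
      rw [h1]
      have h2 : T.z * h = h * T.z := hh.symm
      have h3 : h⁻¹ * T.z⁻¹ = T.z⁻¹ * h⁻¹ := by rw [← mul_inv_rev, ← mul_inv_rev, h2]
      calc T.z * (h * b * h⁻¹) * T.z⁻¹ = (T.z * h) * b * (h⁻¹ * T.z⁻¹) := by group
        _ = (h * T.z) * b * (T.z⁻¹ * h⁻¹) := by rw [h2, h3]
        _ = h * (T.z * b * T.z⁻¹) * h⁻¹ := by group
        _ = h * b⁻¹ * h⁻¹ := by rw [hb1]
        _ = (h * b * h⁻¹)⁻¹ := by group
    · have h1 := mem_centralizer_singleton_iff.1 (T.S_u hs)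
      have h2 : s⁻¹ * T.u = T.u * s⁻¹ := by
        rw [inv_mul_eq_iff_eq_mul]
        calc T.u = T.u * s * s⁻¹ := by group
          _ = s * (T.u * s⁻¹) := by rw [← h1]; group
      calc T.u * (s * b * s⁻¹) = (T.u * s) * b * s⁻¹ := by group
        _ = s * (T.u * b) * s⁻¹ := by rw [← h1]; group
        _ = s * b * (T.u * s⁻¹) := by rw [hb2]; group
        _ = s * b * s⁻¹ * T.u := by rw [← h2]; group
  -- a fixed point
  letI act : MulAction T.S B := {
    smul := fun s b => ⟨s * b * (s : C)⁻¹, hconj s s.2 b b.2⟩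
    one_smul := fun b => Subtype.ext (by
      show ((1 : T.S) : C) * b * ((1 : T.S) : C)⁻¹ = b
      simp)
    mul_smul := fun s t b => Subtype.ext (by
      show ((s * t : T.S) : C) * b * ((s * t : T.S) : C)⁻¹ = s * (t * b * (t : C)⁻¹) * (s : C)⁻¹
      rw [Subgroup.coe_mul]
      group) }
  have hdvd : 5 ∣ Nat.card B := by
    obtain ⟨k, hk0, hk⟩ := hBp.nontrivial_iff_card.1 hnt
    rw [hk]
    exact dvd_pow_self _ hk0.ne'
  have h1f : (1 : B) ∈ MulAction.fixedPoints T.S B := by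
    intro s
    apply Subtype.ext
    show (s : C) * ((1 : B) : C) * (s : C)⁻¹ = 1
    simp
  obtain ⟨β, hβ, hβ1⟩ := T.S_pgroup.exists_fixed_point_of_prime_dvd_card_of_fixed_point B hdvd h1f
  have hβc : ∀ s ∈ T.S, (β : C) * s = s * β := by
    intro s hs
    have h1 : (s : C) * β * s⁻¹ = β := congrArg Subtype.val (hβ ⟨s, hs⟩)
    rw [mul_inv_eq_iff_eq_mul] at h1
    exact h1.symm
  obtain ⟨hβW, hβz, hβu⟩ := (hBm β).1 β.2
  have hβS : (β : C) ∈ T.S := by
    have hp1 : IsPGroup 5 (zpowers (β : C)) := hWp.to_le (zpowers_le.2 hβW)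
    have hp2 : IsPGroup 5 ↥(zpowers (β : C) ⊔ T.S) := by
      refine hp1.to_sup_of_normal_right' T.S_pgroup ?_
      rw [zpowers_le]
      rw [mem_normalizer_iff]
      intro s
      constructor
      · intro hs
        rw [hβc s hs, mul_inv_cancel_right]
        exact hs
      · intro hs
        have h1 := hβc _ hs
        have h2 : (β : C) * s * (β : C)⁻¹ = s := by
          calc (β : C) * s * (β : C)⁻¹ = (β : C)⁻¹ * ((β : C) * (β * s * (β : C)⁻¹)) := by group
            _ = (β : C)⁻¹ * ((β * s * (β : C)⁻¹) * β) := by rw [h1]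
            _ = s := by group
        rwa [h2] at hs
    have h3 := T.S_max (zpowers (β : C) ⊔ T.S) hp2 (by
      rw [sup_le_iff]
      refine ⟨?_, T.S_u⟩
      rw [zpowers_le, mem_centralizer_singleton_iff]
      exact hβu.symm)
    rw [← T.S_card] at h3
    have h4 : T.S = zpowers (β : C) ⊔ T.S := eq_of_le_of_card_ge le_sup_right h3
    rw [h4]
    exact mem_sup_left (mem_zpowers _)
  have hβX := T.S_center β hβS hβc
  have h5 : (β : C) * β = 1 := by
    have h6 := T.cen_of_mem hβX T.z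
    rw [h6, mul_inv_cancel_right] at hβz
    exact mul_eq_one_iff_eq_inv.2 hβz
  exact hβ1 (Subtype.ext (T.eq_one_of_sq hβX h5).symm)

end SitC

end Cfsg.Agent.H211.M5
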