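import Cfsg.Agent.H211.M5.Core

/-!
# S5232 (Monster, p = 5), part B: coordinates (helper211)
-/

set_option autoImplicit false
set_option linter.unusedSectionVars false
set_option linter.style.haveILetI false

namespace Cfsg.Agent.H211.M5

open Subgroup
open Cfsg.Agent.H777.M5

theorem exists_equiv_V6 {A : Type*} [Group A] [Finite A] (hc : ∀ a b : A, a * b = b * a) (h5 : ∀ a : A, a ^ 5 = 1)
    (hcard : Nat.card A = 5 ^ 6) : Nonempty (A ≃* Multiplicative V6) := by
  letI : CommGroup A := { (inferInstance : Group A) with mul_comm := hc }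
  letI : Module (ZMod 5) (Additive A) := AddCommGroup.zmodModule (by
    intro a
    exact h5 a.toMul)
  have : Fact (Nat.Prime 5) := ⟨by norm_num⟩
  have hfin : Module.Finite (ZMod 5) (Additive A) := Module.Finite.of_finite
  have h1 := Module.natCard_eq_pow_finrank (K := ZMod 5) (V := Additive A)
  have h2 : Nat.card (Additive A) = 5 ^ 6 := hcard
  rw [h2, Nat.card_zmod] at h1
  have h3 : Module.finrank (ZMod 5) (Additive A) = 6 := (Nat.pow_right_injective (le_refl _ |>.trans (by norm_num : 2 ≤ 5)) h1).symm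
  have h4 : Module.finrank (ZMod 5) (Additive A) = Module.finrank (ZMod 5) V6 := by
    rw [h3, Module.finrank_fintype_fun_eq_card, Fintype.card_fin]
  let L := LinearEquiv.ofFinrankEq (Additive A) V6 h4
  exact ⟨{
    toFun := fun a => Multiplicative.ofAdd (L (Additive.ofMul a))
    invFun := fun v => (L.symm v.toAdd).toMul
    left_inv := fun a => by simp
    right_inv := fun v => by simp
    map_mul' := fun a b => by
      rw [ofMul_mul, map_add, ofAdd_add] }⟩

namespace SitC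

variable {C : Type} [Group C] [Finite C] (T : SitC C)

theorem exists_p {W : Subgroup C} (hW : Core T W) : ∃ p : C → V6, (∀ a ∈ W, ∀ b ∈ W, p (a * b) = p a + p b) ∧
    (∀ a ∈ W, p a = 0 ↔ a ∈ zpowers T.x) ∧ (∀ v, ∃ a ∈ W, p a = v) := by
  classical
  have hXW : zpowers T.x ≤ W := zpowers_le.2 hW.x_mem
  obtain ⟨e⟩ : Nonempty ((W.map T.q) ≃* Multiplicative V6) := by
    apply exists_equiv_V6
    · rintro ⟨_, ⟨a, ha, rfl⟩⟩ ⟨_, ⟨b, hb, rfl⟩⟩
      exact Subtype.ext (T.N_comm (hW.le_N ha) (hW.le_N hb))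
    · rintro ⟨_, ⟨a, ha, rfl⟩⟩
      apply Subtype.ext
      show T.q a ^ 5 = 1
      rw [← map_pow, q_eq_one]
      exact hW.pow_mem a ha
    · have h1 : T.q.ker = zpowers T.x := QuotientGroup.ker_mk' _
      have h2 := relIndex_ker (f := T.q) (K := W)
      have h3 := card_eq (zpowers T.x) W
      rw [inf_eq_left.2 hXW, card_X, ← h1, h2, hW.card] at h3
      have h4 : 5 * Nat.card (W.map T.q) = 5 * 5 ^ 6 := by rw [h3]; norm_num
      exact Nat.eq_of_mul_eq_mul_left (by norm_num) h4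
  refine ⟨fun a => if h : a ∈ W then (e ⟨T.q a, mem_map_of_mem _ h⟩).toAdd else 0, ?_, ?_, ?_⟩
  · intro a ha b hb
    simp only [dif_pos ha, dif_pos hb, dif_pos (mul_mem ha hb)]
    rw [← toAdd_mul, ← map_mul]
    congr 2
  · intro a ha
    simp only [dif_pos ha]
    rw [← toAdd_one, Multiplicative.toAdd.injective.eq_iff, MulEquiv.map_eq_one_iff, ← T.q_eq_one]
    constructor
    · intro h
      exact congrArg Subtype.val h
    · intro h
      exact Subtype.ext h
  · intro v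
    obtain ⟨⟨_, ⟨a, ha, rfl⟩⟩, hA⟩ := e.surjective (Multiplicative.ofAdd v)
    refine ⟨a, ha, ?_⟩
    have ha' : a ∈ W := ha
    simp only [dif_pos ha']
    rw [hA, toAdd_ofAdd]

/-! ### powers of `x` -/

/-- `x ^ k` for `k : ZMod 5` -/
def pw (k : ZMod 5) : C := T.x ^ k.val

theorem pw_mem (k : ZMod 5) : T.pw k ∈ zpowers T.x := pow_mem (mem_zpowers _) _

theorem pw_zero : T.pw 0 = 1 := by rw [pw, ZMod.val_zero, pow_zero]

theorem pw_add (a b : ZMod 5) : T.pw (a + b) = T.pw a * T.pw b := by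
  rw [pw, pw, pw, ZMod.val_add, ← pow_add]
  conv_rhs => rw [← Nat.div_add_mod (a.val + b.val) 5, pow_add, pow_mul, T.x_pow, one_pow, one_mul]

theorem pw_inj {a b : ZMod 5} (h : T.pw a = T.pw b) : a = b := by
  have h1 := (pow_inj_mod (x := T.x) (n := a.val) (m := b.val)).1 h
  rw [T.x_ord, Nat.mod_eq_of_lt a.val_lt, Nat.mod_eq_of_lt b.val_lt] at h1
  exact ZMod.val_injective 5 h1

theorem exists_pw {t : C} (ht : t ∈ zpowers T.x) : ∃ k, t = T.pw k := by
  classical
  rw [mem_zpowers_iff_mem_range_orderOf, T.x_ord] at ht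
  obtain ⟨k, hk, rfl⟩ := Finset.mem_image.1 ht
  refine ⟨(k : ZMod 5), ?_⟩
  rw [pw, ZMod.val_natCast, Nat.mod_eq_of_lt (Finset.mem_range.1 hk)]

theorem pw_neg (a : ZMod 5) : T.pw (-a) = (T.pw a)⁻¹ := by
  rw [eq_inv_iff_mul_eq_one, ← pw_add, neg_add_cancel, pw_zero]

end SitC

/-- coordinates, in `C` -/
structure WC {C : Type} [Group C] (T : SitC C) where
  w : V6 → C
  om' : V6 → V6 → ZMod 5
  add_left : ∀ u u' v, om' (u + u') v = om' u v + om' u' v
  add_right : ∀ u v v', om' u (v + v') = om' u v + om' u v'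
  alt : ∀ v, om' v v = 0
  nondeg : ∀ u, (∀ v, om' u v = 0) → u = 0
  w_mul : ∀ u v, w u * w v = w (u + v) * T.x ^ (3 * om' u v).val
  w_z : ∀ v, T.z * w v * T.z⁻¹ = w (-v)
  w_ne : ∀ v, w v ∈ zpowers T.x → v = 0
  w_N : ∀ v, w v ∈ T.N
  rho : C → (V6 ≃ₗ[ZMod 5] V6)
  rho_w : ∀ h, h * T.z = T.z * h → ∀ v, h * w v * h⁻¹ = w (rho h v)
  rho_om : ∀ h, h * T.z = T.z * h → ∀ u v, om' (rho h u) (rho h v) = om' u v
  rho_ker : ∀ h, h * T.z = T.z * h → (∀ v, rho h v = v) → h ∈ zpowers T.x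
  w_nor : ∀ g v, ∃ (v' : V6) (c : ℕ), g * w v * g⁻¹ = w v' * T.x ^ c

theorem exists_wc {C : Type} [Group C] [Finite C] (T : SitC C) : Nonempty (WC T) := by
  classical
  obtain ⟨W, hW⟩ := T.exists_core
  obtain ⟨p, hpm, hp0, hps⟩ := T.exists_p hW
  have hWn := hW.nor
  have hXW : zpowers T.x ≤ W := zpowers_le.2 hW.x_mem
  have hz' : T.z⁻¹ = T.z := inv_eq_of_mul_eq_one_left T.z_sq
  have hpX : ∀ t ∈ zpowers T.x, p t = 0 := fun t ht => (hp0 t (hXW ht)).2 ht
  have hp1 : p 1 = 0 := hpX 1 (one_mem _)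
  have hpi : ∀ a ∈ W, p a⁻¹ = -p a := by
    intro a ha
    rw [eq_neg_iff_add_eq_zero, ← hpm _ (inv_mem ha) _ ha, inv_mul_cancel, hp1]
  -- the representatives
  have hex : ∀ v, ∃ a ∈ W, p a = v ∧ T.z * a * T.z⁻¹ = a⁻¹ := by
    intro v
    obtain ⟨a, ha, hav⟩ := hps v
    obtain ⟨s, hs, hsz⟩ := T.exists_inv (hW.le_N ha)
    exact ⟨a * s, mul_mem ha (hXW hs), by rw [hpm a ha s (hXW hs), hpX s hs, add_zero, hav], hsz⟩
  choose w hwW hwp hwz using hex
  have huniq : ∀ a ∈ W, ∀ b ∈ W, p a = p b → T.z * a * T.z⁻¹ = a⁻¹ → T.z * b * T.z⁻¹ = b⁻¹ → a = b := by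
    intro a ha b hb hab haz hbz
    obtain ⟨t, ht⟩ : ∃ t, t = a⁻¹ * b := ⟨_, rfl⟩
    have htX : t ∈ zpowers T.x := by
      rw [← hp0 t (by rw [ht]; exact mul_mem (inv_mem ha) hb), ht, hpm _ (inv_mem ha) _ hb, hpi a ha, hab,
        neg_add_cancel]
    have hbt : b = a * t := by rw [ht]; group
    have h1 : t * t = 1 := by
      have hc := T.cen_of_mem htX
      rw [hbt] at hbz
      have h2 : T.z * (a * t) * T.z⁻¹ = a⁻¹ * t := by
        rw [← haz]
        calc T.z * (a * t) * T.z⁻¹ = T.z * a * (T.z⁻¹ * T.z) * t * T.z⁻¹ := by group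
          _ = T.z * a * T.z⁻¹ * (T.z * t) * T.z⁻¹ := by group
          _ = T.z * a * T.z⁻¹ * (t * T.z) * T.z⁻¹ := by rw [hc]
          _ = T.z * a * T.z⁻¹ * t := by group
      rw [h2, mul_inv_rev, hc a⁻¹] at hbz
      exact mul_eq_one_iff_eq_inv.2 (mul_right_cancel hbz)
    rw [hbt, T.eq_one_of_sq htX h1, mul_one]
  -- elements of `W` are `w(v) t`
  have hdec : ∀ a ∈ W, ∃ t ∈ zpowers T.x, a = w (p a) * t := by
    intro a ha
    refine ⟨(w (p a))⁻¹ * a, ?_, by group⟩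
    rw [← hp0 _ (mul_mem (inv_mem (hwW _)) ha), hpm _ (inv_mem (hwW _)) _ ha, hpi _ (hwW _), hwp, neg_add_cancel]
  -- commutators
  have hcomX : ∀ a ∈ W, ∀ b ∈ W, a * b * a⁻¹ * b⁻¹ ∈ zpowers T.x := by
    intro a ha b hb
    rw [← T.q_eq_one, map_mul, map_mul, map_mul, map_inv, map_inv, T.N_comm (hW.le_N ha) (hW.le_N hb),
      mul_inv_cancel_right, mul_inv_cancel]
  have hcommul : ∀ a ∈ W, ∀ a' ∈ W, ∀ b ∈ W,
      (a * a') * b * (a * a')⁻¹ * b⁻¹ = (a * b * a⁻¹ * b⁻¹) * (a' * b * a'⁻¹ * b⁻¹) := by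
    intro a ha a' ha' b hb
    have hc := T.cen_of_mem (hcomX a' ha' b hb)
    calc (a * a') * b * (a * a')⁻¹ * b⁻¹ = a * (a' * b * a'⁻¹ * b⁻¹) * b * a⁻¹ * b⁻¹ := by group
      _ = (a' * b * a'⁻¹ * b⁻¹) * a * b * a⁻¹ * b⁻¹ := by rw [hc a]
      _ = (a' * b * a'⁻¹ * b⁻¹) * (a * b * a⁻¹ * b⁻¹) := by group
      _ = (a * b * a⁻¹ * b⁻¹) * (a' * b * a'⁻¹ * b⁻¹) := (hc _).symm
  have hcomt : ∀ a ∈ W, ∀ t ∈ zpowers T.x, ∀ b ∈ W, (a * t) * b * (a * t)⁻¹ * b⁻¹ = a * b * a⁻¹ * b⁻¹ := by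
    intro a ha t ht b hb
    rw [hcommul a ha t (hXW ht) b hb, ← T.cen_of_mem ht b]
    group
  have hom : ∀ u v, ∃ k, w u * w v * (w u)⁻¹ * (w v)⁻¹ = T.pw k := fun u v =>
    T.exists_pw (hcomX _ (hwW u) _ (hwW v))
  choose om' hom' using hom
  have hanti : ∀ u v, om' v u = -om' u v := by
    intro u v
    apply T.pw_inj
    rw [T.pw_neg, ← hom', ← hom']
    group
  -- products
  have hprod : ∀ u v, ∃ k, w u * w v = w (u + v) * T.pw k := by
    intro u v
    obtain ⟨t, ht, hut⟩ := hdec (w u * w v) (mul_mem (hwW u) (hwW v))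
    rw [hpm _ (hwW u) _ (hwW v), hwp, hwp] at hut
    obtain ⟨k, rfl⟩ := T.exists_pw ht
    exact ⟨k, hut⟩
  have hadd : ∀ u u' v, om' (u + u') v = om' u v + om' u' v := by
    intro u u' v
    obtain ⟨k, hk⟩ := hprod u u'
    apply T.pw_inj
    rw [T.pw_add, ← hom', ← hom', ← hom', ← hcommul _ (hwW u) _ (hwW u') _ (hwW v), hk,
      hcomt _ (hwW _) _ (T.pw_mem k) _ (hwW v)]
  have halt : ∀ v, om' v v = 0 := by
    intro v
    apply T.pw_inj
    rw [← hom', T.pw_zero]
    group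
  have hmul : ∀ u v, w u * w v = w (u + v) * T.x ^ (3 * om' u v).val := by
    intro u v
    obtain ⟨k, hk⟩ := hprod u v
    have h1 : om' u v = 2 * k := by
      apply T.pw_inj
      rw [← hom', two_mul, T.pw_add]
      have hc := T.cen_of_mem (T.pw_mem k)
      -- conjugate by `z`
      have h2 : (w u)⁻¹ * (w v)⁻¹ = (w (u + v))⁻¹ * T.pw k := by
        calc (w u)⁻¹ * (w v)⁻¹ = (T.z * w u * T.z⁻¹) * (T.z * w v * T.z⁻¹) := by rw [hwz, hwz]
          _ = T.z * (w u * w v) * T.z⁻¹ := by group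
          _ = T.z * (w (u + v) * T.pw k) * T.z⁻¹ := by rw [hk]
          _ = T.z * w (u + v) * (T.pw k * T.z⁻¹) := by group
          _ = T.z * w (u + v) * (T.z⁻¹ * T.pw k) := by rw [hc]
          _ = (T.z * w (u + v) * T.z⁻¹) * T.pw k := by group
          _ = (w (u + v))⁻¹ * T.pw k := by rw [hwz]
      calc w u * w v * (w u)⁻¹ * (w v)⁻¹ = (w u * w v) * ((w u)⁻¹ * (w v)⁻¹) := by group
        _ = (w (u + v) * T.pw k) * ((w (u + v))⁻¹ * T.pw k) := by rw [hk, h2]
        _ = w (u + v) * (T.pw k * (w (u + v))⁻¹) * T.pw k := by group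
        _ = w (u + v) * ((w (u + v))⁻¹ * T.pw k) * T.pw k := by rw [hc (w (u + v))⁻¹]
        _ = T.pw k * T.pw k := by group
    have h3 : 3 * om' u v = k := by
      rw [h1, ← mul_assoc, show (3 * 2 : ZMod 5) = 1 by decide, one_mul]
    rw [h3, hk]
    rfl
  -- the action
  have hcj : ∀ h, h * T.z = T.z * h → ∀ a, T.z * a * T.z⁻¹ = a⁻¹ → T.z * (h * a * h⁻¹) * T.z⁻¹ = (h * a * h⁻¹)⁻¹ := by
    intro h hh a ha
    have h3 : h⁻¹ * T.z⁻¹ = T.z⁻¹ * h⁻¹ := by rw [← mul_inv_rev, ← mul_inv_rev, hh]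
    calc T.z * (h * a * h⁻¹) * T.z⁻¹ = (T.z * h) * a * (h⁻¹ * T.z⁻¹) := by group
      _ = (h * T.z) * a * (T.z⁻¹ * h⁻¹) := by rw [← hh, h3]
      _ = h * (T.z * a * T.z⁻¹) * h⁻¹ := by group
      _ = h * a⁻¹ * h⁻¹ := by rw [ha]
      _ = (h * a * h⁻¹)⁻¹ := by group
  have hrho : ∀ h, ∃ L : V6 ≃ₗ[ZMod 5] V6, h * T.z = T.z * h → ∀ v, h * w v * h⁻¹ = w (L v) := by
    intro h
    by_cases hh : h * T.z = T.z * h
    · have hmem : ∀ v, h * w v * h⁻¹ ∈ W := fun v => hWn.conj_mem _ (hwW v) h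
      let f : V6 →+ V6 := {
        toFun := fun v => p (h * w v * h⁻¹)
        map_zero' := by
          have h1 : w 0 = 1 := huniq _ (hwW 0) _ (one_mem _) (by rw [hwp, hp1]) (hwz 0) (by simp)
          rw [h1, mul_one, mul_inv_cancel, hp1]
        map_add' := by
          intro u v
          obtain ⟨k, hk⟩ := hprod u v
          have h1 : h * w u * h⁻¹ * (h * w v * h⁻¹) = h * w (u + v) * h⁻¹ * T.pw k := by
            calc h * w u * h⁻¹ * (h * w v * h⁻¹) = h * (w u * w v) * h⁻¹ := by group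
              _ = h * (w (u + v) * T.pw k) * h⁻¹ := by rw [hk]
              _ = h * w (u + v) * (T.pw k * h⁻¹) := by group
              _ = h * w (u + v) * (h⁻¹ * T.pw k) := by rw [T.cen_of_mem (T.pw_mem k)]
              _ = h * w (u + v) * h⁻¹ * T.pw k := by group
          have h2 := congrArg p h1
          rw [hpm _ (hmem u) _ (hmem v), hpm _ (hmem _) _ (hXW (T.pw_mem k)), hpX _ (T.pw_mem k), add_zero] at h2
          exact h2.symm }
      have hinj : Function.Injective (f.toZModLinearMap 5) := by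
        rw [injective_iff_map_eq_zero]
        intro v hv
        have h1 : p (h * w v * h⁻¹) = 0 := hv
        rw [hp0 _ (hmem v)] at h1
        have h2 := T.cen_of_mem h1 h⁻¹
        have h3 : w v = h * w v * h⁻¹ := by
          calc w v = h⁻¹ * (h * w v * h⁻¹) * h := by group
            _ = (h * w v * h⁻¹) * h⁻¹ * h := by rw [h2]
            _ = h * w v * h⁻¹ := by group
        rw [← h3, ← hp0 _ (hwW v), hwp] at h1
        exact h1
      refine ⟨LinearEquiv.ofInjectiveEndo (f.toZModLinearMap 5) hinj, fun _ v => ?_⟩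
      refine huniq _ (hmem v) _ (hwW _) ?_ (hcj h hh _ (hwz v)) (hwz _)
      rw [hwp]
      rfl
    · exact ⟨LinearEquiv.refl _ _, fun h1 => absurd h1 hh⟩
  choose rho hrho' using hrho
  refine ⟨{
    w := w
    om' := om'
    add_left := hadd
    add_right := fun u v v' => by
      rw [hanti (v + v') u, hadd, hanti v u, hanti v' u, neg_add]
    alt := halt
    nondeg := ?_
    w_mul := hmul
    w_z := ?_
    w_ne := ?_
    w_N := fun v => hW.le_N (hwW v)
    rho := rho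
    rho_w := fun h hh v => hrho' h hh v
    rho_om := ?_
    rho_ker := ?_
    w_nor := fun g v => by
      obtain ⟨t, ht, h1⟩ := hdec (g * w v * g⁻¹) (hWn.conj_mem _ (hwW v) g)
      obtain ⟨k, rfl⟩ := T.exists_pw ht
      exact ⟨_, k.val, h1⟩ }⟩
  · intro u hu
    have h1 : w u ∈ zpowers T.x := by
      refine hW.center _ (hwW u) fun a ha => ?_
      obtain ⟨t, ht, hat⟩ := hdec a ha
      have h2 := hom' u (p a)
      rw [hu, T.pw_zero, mul_inv_eq_one, mul_inv_eq_iff_eq_mul] at h2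
      rw [hat, ← mul_assoc, h2, mul_assoc, T.cen_of_mem ht (w u), ← mul_assoc]
    rw [← hp0 _ (hwW u), hwp] at h1
    exact h1
  · intro v
    rw [hwz]
    refine huniq _ (inv_mem (hwW v)) _ (hwW _) (by rw [hpi _ (hwW v), hwp, hwp]) ?_ (hwz _)
    calc T.z * (w v)⁻¹ * T.z⁻¹ = (T.z * w v * T.z⁻¹)⁻¹ := by group
      _ = (w v)⁻¹⁻¹ := by rw [hwz]
  · intro v hv
    rwa [← hp0 _ (hwW v), hwp] at hv
  · intro h hh u v
    apply T.pw_inj
    rw [← hom', ← hrho' h hh u, ← hrho' h hh v, ← hom']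
    have hc := T.cen_of_mem (hcomX _ (hwW u) _ (hwW v)) h
    calc h * w u * h⁻¹ * (h * w v * h⁻¹) * (h * w u * h⁻¹)⁻¹ * (h * w v * h⁻¹)⁻¹ =
        h * (w u * w v * (w u)⁻¹ * (w v)⁻¹) * h⁻¹ := by group
      _ = w u * w v * (w u)⁻¹ * (w v)⁻¹ := by rw [hc, mul_inv_cancel_right]
  · intro h hh hv
    refine hW.ker h hh fun a ha => ?_
    obtain ⟨t, ht, hat⟩ := hdec a ha
    have h1 := hrho' h hh (p a)
    rw [hv, mul_inv_eq_iff_eq_mul] at h1
    have h2 : T.q t = 1 := T.q_eq_one.2 ht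
    rw [hat, map_mul, h2, mul_one, ← map_mul, h1, map_mul]


/-- `C(x)` -/
def toC {G : Type} [Group G] (S : Sit G) : SitC ↥(centralizer {S.x}) :=
  letI := S.grpJ
  { x := ⟨S.x, mem_centralizer_singleton_iff.2 rfl⟩
    z := ⟨S.z, mem_centralizer_singleton_iff.2 S.xz.symm⟩
    u := ⟨S.u, mem_centralizer_singleton_iff.2 S.xu.symm⟩
    x_ord := by
      rw [← S.x_ord]
      exact (Subgroup.orderOf_coe (⟨S.x, mem_centralizer_singleton_iff.2 rfl⟩ : ↥(centralizer {S.x}))).symm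
    x_cen := fun g => Subtype.ext (mem_centralizer_singleton_iff.1 g.2)
    z_sq := Subtype.ext S.z_sq
    z_ne := fun h => S.z_ne (congrArg Subtype.val h)
    u_sq := Subtype.ext S.u_sq
    uz := Subtype.ext S.uz
    N := S.N.subgroupOf (centralizer {S.x})
    N_nor := ⟨fun n hn g => S.N_conj g g.2 n hn⟩
    N_odd := by
      have h : Nat.card ↥(S.N.subgroupOf (centralizer {S.x})) = Nat.card S.N :=
        Nat.card_congr (subgroupOfEquivOfLe S.N_le).toEquiv
      rw [h]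
      exact S.N_odd
    x_N := S.x_N
    N_sup := fun g => by
      obtain ⟨n, hn, h, hx, hz, hg⟩ := S.N_sup g g.2
      exact ⟨⟨n, S.N_le hn⟩, hn, ⟨h, mem_centralizer_singleton_iff.2 hx⟩, Subtype.ext hz, Subtype.ext hg⟩
    J := S.J
    J_simple := S.J_simple
    J_card := S.J_card
    f := S.f.comp {
      toFun := fun h => ⟨((h : ↥(centralizer {S.x})) : G), (h : ↥(centralizer {S.x})).2, by
        have := mem_centralizer_singleton_iff.1 h.2
        exact mem_centralizer_singleton_iff.2 (congrArg Subtype.val this)⟩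
      map_one' := rfl
      map_mul' := fun _ _ => rfl }
    f_surj := by
      intro j
      obtain ⟨⟨h, hx, hz⟩, hj⟩ := S.f_surj j
      exact ⟨⟨⟨h, hx⟩, mem_centralizer_singleton_iff.2 (Subtype.ext (mem_centralizer_singleton_iff.1 hz))⟩, hj⟩
    f_ker := fun h => by
      refine (S.f_ker _).trans ?_
      constructor
      · rintro ⟨k, hk | hk⟩
        · exact ⟨k, Or.inl (Subtype.ext hk)⟩
        · exact ⟨k, Or.inr (Subtype.ext hk)⟩
      · rintro ⟨k, hk | hk⟩
        · exact ⟨k, Or.inl (congrArg Subtype.val hk)⟩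
        · exact ⟨k, Or.inr (congrArg Subtype.val hk)⟩
    no125 := fun R hRz hRu => by
      have h1 := S.no125 (R.map (centralizer {S.x}).subtype) (map_subtype_le _) (by
        rintro _ ⟨r, hr, rfl⟩
        exact mem_centralizer_singleton_iff.2 (congrArg Subtype.val (mem_centralizer_singleton_iff.1 (hRz hr)))) (by
        rintro _ ⟨r, hr, rfl⟩
        exact mem_centralizer_singleton_iff.2 (congrArg Subtype.val (mem_centralizer_singleton_iff.1 (hRu hr))))
      rwa [card_map_of_injective (subtype_injective _)] at h1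
    S := S.S.subgroupOf (centralizer {S.x})
    S_u := fun s hs => mem_centralizer_singleton_iff.2 (Subtype.ext (mem_centralizer_singleton_iff.1 (S.S_u hs)))
    S_card := by
      rw [← S.S_card]
      exact Nat.card_congr (subgroupOfEquivOfLe S.S_x).toEquiv
    S_center := fun y hy h => by
      obtain ⟨k, hk⟩ := S.S_center y hy (fun s hs => congrArg Subtype.val (h ⟨s, S.S_x hs⟩ hs))
      exact ⟨k, Subtype.ext (by
        rw [← hk]
        rfl)⟩
    S_nab := by
      obtain ⟨s₁, h₁, s₂, h₂, h⟩ := S.S_nab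
      refine ⟨⟨s₁, S.S_x h₁⟩, h₁, ⟨s₂, S.S_x h₂⟩, h₂, fun hc => h ?_⟩
      obtain ⟨k, hk⟩ := hc
      exact ⟨k, congrArg Subtype.val hk⟩
    S_max := fun R hR hRu => by
      have h1 := S.S_max (R.map (centralizer {S.x}).subtype) (hR.map _) (map_subtype_le _) (by
        rintro _ ⟨r, hr, rfl⟩
        exact mem_centralizer_singleton_iff.2 (congrArg Subtype.val (mem_centralizer_singleton_iff.1 (hRu hr))))
      rwa [card_map_of_injective (subtype_injective _)] at h1
    not_dvd := fun h => S.not_dvd (h.trans (card_subgroup_dvd_card _)) }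

/-- **Part B**, with the normality of `W`. -/
theorem exists_wout2 {G : Type} [Group G] [Finite G] (S : Sit G) : ∃ W : WOut S, ∀ g, g * S.x = S.x * g →
    ∀ v, ∃ (v' : V6) (c : ℕ), g * W.w v * g⁻¹ = W.w v' * S.x ^ c := by
  classical
  obtain ⟨D⟩ := exists_wc (toC S)
  have hmem : ∀ {h : G}, h * S.x = S.x * h → h ∈ (centralizer {S.x} : Subgroup G) :=
    fun h => mem_centralizer_singleton_iff.2 h
  have hval : ∀ v, (D.w v : G) ∈ zpowers S.x → D.w v ∈ zpowers (toC S).x := by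
    rintro v ⟨k, hk⟩
    exact ⟨k, Subtype.ext hk⟩
  refine ⟨{
    w := fun v => D.w v
    om' := D.om'
    add_left := D.add_left
    add_right := D.add_right
    alt := D.alt
    nondeg := D.nondeg
    w_mul := fun u v => congrArg Subtype.val (D.w_mul u v)
    w_x := fun v => mem_centralizer_singleton_iff.1 (D.w v).2
    w_z := fun v => congrArg Subtype.val (D.w_z v)
    w_ne := fun v hv => D.w_ne v (hval v hv)
    w_N := fun v => D.w_N v
    rho := fun h => if hh : h * S.x = S.x * h then D.rho ⟨h, hmem hh⟩ else LinearEquiv.refl _ _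
    rho_w := fun h hx hz v => by
      rw [dif_pos hx]
      exact congrArg Subtype.val (D.rho_w ⟨h, hmem hx⟩ (Subtype.ext hz) v)
    rho_om := fun h hx hz u v => by
      rw [dif_pos hx]
      exact D.rho_om ⟨h, hmem hx⟩ (Subtype.ext hz) u v
    rho_ker := fun h hx hz hv => by
      rw [dif_pos hx] at hv
      obtain ⟨k, hk⟩ := D.rho_ker ⟨h, hmem hx⟩ (Subtype.ext hz) hv
      exact ⟨k, congrArg Subtype.val hk⟩ }, fun g hg v => ?_⟩
  obtain ⟨v', c, h1⟩ := D.w_nor ⟨g, hmem hg⟩ v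
  exact ⟨v', c, congrArg Subtype.val h1⟩

/-- **Part B.** -/
theorem exists_wout {G : Type} [Group G] [Finite G] (S : Sit G) : Nonempty (WOut S) :=
  ⟨(exists_wout2 S).choose⟩

end Cfsg.Agent.H211.M5
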