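import Cfsg.Agent.H211.M5.Base

/-!
# S5232 (Monster, p = 5), part B: the extraspecial group `W` (helper211)

`exists_core` : the normal Sylow 5-subgroup `W` of `N` has order `5 ^ 7`, `W / ⟨x⟩` is elementary abelian, `Z(W) = ⟨x⟩`.
`exists_pi` : coordinates of `W / ⟨x⟩`.
-/

set_option autoImplicit false
set_option linter.unusedSectionVars false
set_option linter.style.haveILetI false

namespace Cfsg.Agent.H211.M5

open Subgroup

/-- the properties of `W` -/
structure Core {C : Type} [Group C] [Finite C] (T : SitC C) (W : Subgroup C) : Prop where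
  nor : W.Normal
  le_N : W ≤ T.N
  x_mem : T.x ∈ W
  card : Nat.card W = 5 ^ 7
  pow_mem : ∀ w ∈ W, w ^ 5 ∈ zpowers T.x
  center : ∀ w ∈ W, (∀ v ∈ W, w * v = v * w) → w ∈ zpowers T.x
  ker : ∀ g, g * T.z = T.z * g → (∀ w ∈ W, T.q g * T.q w = T.q w * T.q g) → g ∈ zpowers T.x

namespace SitC

variable {C : Type} [Group C] [Finite C] (T : SitC C)

theorem exists_core : ∃ W : Subgroup C, Core T W := by
  obtain ⟨W, hWn, hWN, hWp, hWm⟩ := T.exists_W
  have hxW : T.x ∈ W := hWm _ T.x_N 1 (by rw [pow_one]; exact T.x_pow)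
  have hXW : zpowers T.x ≤ W := zpowers_le.2 hxW
  have hNS : T.N ⊓ T.S ≤ W := by
    rintro s ⟨hs, hs'⟩
    obtain ⟨m, hm⟩ := T.S_pgroup ⟨s, hs'⟩
    exact hWm s hs m (congrArg Subtype.val hm)
  have hW : 125 ≤ Nat.card W := T.card_S_N.trans (card_le_of_le hNS)
  obtain ⟨k, hk⟩ := IsPGroup.iff_card.1 hWp
  have hk7 := T.card_le hWN hk
  obtain ⟨y, hyz, hy⟩ := T.exists_y
  have hker : ∀ g, g * T.z = T.z * g → (∀ w ∈ W, T.q g * T.q w = T.q w * T.q g) → g ∈ zpowers T.x := fun g hg h =>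
    T.K0_H hWn hWN hNS (T.mem_K0.2 h) hg
  -- `y` does not centralize `W`
  have hyW : ¬ ∀ b ∈ W, y * b = b * y := by
    intro h
    have h1 : y ∈ zpowers T.x := hker y hyz (fun w hw => by rw [← map_mul, h w hw, map_mul])
    have h2 := T.pow_of_mem h1
    have h3 := orderOf_dvd_of_pow_eq_one h2
    rw [hy] at h3
    norm_num at h3
  have hyn : ∀ b ∈ W, y * b * y⁻¹ ∈ W := fun b hb => hWn.conj_mem b hb y
  obtain ⟨hk', hfix⟩ := (T.dich hy hyn hxW hk hk7).resolve_left hyW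
  rw [hk'] at hk
  -- the dichotomy
  have hdich : ∀ B : Subgroup C, B ≤ W → T.x ∈ B → (∀ b ∈ B, y * b * y⁻¹ ∈ B) → B ≤ zpowers T.x ∨ B = W := by
    intro B hBW hxB hyB
    obtain ⟨l, hl7, hl⟩ : ∃ l ≤ 7, Nat.card B = 5 ^ l := by
      have h1 : Nat.card B ∣ 5 ^ 7 := by
        rw [← hk]
        exact card_dvd_of_le hBW
      exact (Nat.dvd_prime_pow (by norm_num : Nat.Prime 5)).1 h1
    rcases T.dich hy hyB hxB hl hl7 with h | ⟨h, -⟩
    · left
      intro b hb
      exact hfix b (hBW hb) (h b hb)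
    · right
      exact eq_of_le_of_card_ge hBW (by rw [hl, hk, h])
  -- exponent
  have hexp : ∀ w ∈ W, w ^ 5 ∈ zpowers T.x := by
    let B : Subgroup C := {
      carrier := {w | w ∈ W ∧ T.q w ^ 5 = 1}
      one_mem' := ⟨one_mem _, by rw [map_one, one_pow]⟩
      mul_mem' := by
        rintro a b ⟨ha, ha5⟩ ⟨hb, hb5⟩
        refine ⟨mul_mem ha hb, ?_⟩
        have hc : Commute (T.q a) (T.q b) := T.N_comm (hWN ha) (hWN hb)
        rw [map_mul, hc.mul_pow, ha5, hb5, one_mul]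
      inv_mem' := by
        rintro a ⟨ha, ha5⟩
        refine ⟨inv_mem ha, ?_⟩
        rw [map_inv, inv_pow, ha5, inv_one] }
    have hBW : B ≤ W := fun w hw => hw.1
    rcases hdich B hBW ⟨hxW, by rw [← map_pow, T.x_pow, map_one]⟩ (fun b hb => ⟨hyn b hb.1, by
      rw [map_mul, map_mul, map_inv, conj_pow, hb.2]; simp⟩) with h | h
    · exfalso
      obtain ⟨w, hw, hwX⟩ : ∃ w ∈ W, w ∉ zpowers T.x := by
        by_contra hcon
        push Not at hcon
        have h1 : W ≤ zpowers T.x := hcon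
        have h2 := card_le_of_le h1
        rw [card_X] at h2
        omega
      obtain ⟨m, hm⟩ := hWp ⟨w, hw⟩
      have hm' : w ^ 5 ^ m = 1 := congrArg Subtype.val hm
      obtain ⟨j, -, hj⟩ : ∃ j ≤ m, orderOf (T.q w) = 5 ^ j := by
        refine (Nat.dvd_prime_pow (by norm_num : Nat.Prime 5)).1 (orderOf_dvd_of_pow_eq_one ?_)
        rw [← map_pow, hm', map_one]
      have hj0 : j ≠ 0 := by
        rintro rfl
        rw [pow_zero, orderOf_eq_one_iff, q_eq_one] at hj
        exact hwX hj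
      obtain ⟨i, rfl⟩ := Nat.exists_eq_succ_of_ne_zero hj0
      have h1 : w ^ 5 ^ i ∈ B := by
        refine ⟨pow_mem hw _, ?_⟩
        rw [map_pow, ← pow_mul, ← pow_succ, ← Nat.succ_eq_add_one, ← hj, pow_orderOf_eq_one]
      have h2 := h h1
      rw [← q_eq_one, map_pow] at h2
      have h3 := orderOf_dvd_of_pow_eq_one h2
      rw [hj] at h3
      have h4 := Nat.le_of_dvd (by positivity) h3
      have h5 : 5 ^ i < 5 ^ (i.succ) := Nat.pow_lt_pow_right (by norm_num) (Nat.lt_succ_self i)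
      omega
    · intro w hw
      rw [← h] at hw
      rw [← q_eq_one, map_pow]
      exact hw.2
  -- the centre
  have hcen : ∀ w ∈ W, (∀ v ∈ W, w * v = v * w) → w ∈ zpowers T.x := by
    let B : Subgroup C := {
      carrier := {w | w ∈ W ∧ ∀ v ∈ W, w * v = v * w}
      one_mem' := ⟨one_mem _, fun v _ => by simp⟩
      mul_mem' := by
        rintro a b ⟨ha, ha5⟩ ⟨hb, hb5⟩
        refine ⟨mul_mem ha hb, fun v hv => ?_⟩
        rw [mul_assoc, hb5 v hv, ← mul_assoc, ha5 v hv, mul_assoc]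
      inv_mem' := by
        rintro a ⟨ha, ha5⟩
        refine ⟨inv_mem ha, fun v hv => ?_⟩
        rw [inv_mul_eq_iff_eq_mul, ← mul_assoc, ha5 v hv, mul_inv_cancel_right] }
    have hBW : B ≤ W := fun w hw => hw.1
    rcases hdich B hBW ⟨hxW, fun v _ => (T.x_cen v).symm⟩ (fun b hb => ⟨hyn b hb.1, fun v hv => by
      have h1 : y⁻¹ * v * y ∈ W := by
        have := hWn.conj_mem v hv y⁻¹
        rwa [inv_inv] at this
      calc y * b * y⁻¹ * v = y * (b * (y⁻¹ * v * y)) * y⁻¹ := by group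
        _ = y * ((y⁻¹ * v * y) * b) * y⁻¹ := by rw [hb.2 _ h1]
        _ = v * (y * b * y⁻¹) := by group⟩) with h | h
    · intro w hw hwc
      exact h ⟨hw, hwc⟩
    · exfalso
      refine T.W_nab hWn hWN hWp hWm hNS hxW fun a ha b hb => ?_
      rw [← h] at ha
      exact ha.2 b hb
  exact ⟨W, hWn, hWN, hxW, hk, hexp, hcen, hker⟩

end SitC

end Cfsg.Agent.H211.M5
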